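import Mathlib

/-!
Laurent series: coefficient maps, twisting by units, idempotents over a local ring.
-/

universe u v

namespace Groth.Agent.H9Laurent

open IsLocalRing

variable {R : Type u} [CommRing R] {S : Type v} [CommRing S]

/-- Apply a ring homomorphism to the coefficients. -/
noncomputable def lmap (f : R →+* S) : LaurentSeries R →+* LaurentSeries S where
  toFun x := x.map (f : R →ₙ+* S)
  map_one' := by
    ext g
    by_cases hg : g = 0
    · simp [HahnSeries.coeff_one, hg]; exact map_one f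
    · simp [HahnSeries.coeff_one, hg]
  map_mul' _ _ := HahnSeries.map_mul (f : R →ₙ+* S)
  map_zero' := by ext g; simp
  map_add' _ _ := by ext g; simp

@[simp] theorem lmap_coeff (f : R →+* S) (x : LaurentSeries R) (g : ℤ) :
    (lmap f x).coeff g = f (x.coeff g) := rfl

theorem twist_support (ζ : Rˣ) (x : LaurentSeries R) :
    (Function.support fun g : ℤ => ((ζ ^ g : Rˣ) : R) * x.coeff g) = x.support := by
  ext g
  simp [Units.mul_right_eq_zero]

/-- The series obtained by `t ↦ ζ t`. -/
noncomputable def twistFun (ζ : Rˣ) (x : LaurentSeries R) : LaurentSeries R where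
  coeff g := ((ζ ^ g : Rˣ) : R) * x.coeff g
  isPWO_support' := by rw [twist_support]; exact x.isPWO_support

/-- The automorphism `t ↦ ζ t`. -/
noncomputable def twist (ζ : Rˣ) : LaurentSeries R →+* LaurentSeries R where
  toFun := twistFun ζ
  map_one' := by
    ext g
    by_cases hg : g = 0
    · simp [twistFun, hg]
    · simp [twistFun, HahnSeries.coeff_one, hg]
  map_mul' x y := by
    ext g
    show ((ζ ^ g : Rˣ) : R) * (x * y).coeff g = (twistFun ζ x * twistFun ζ y).coeff g
    have hx : (twistFun ζ x).support = x.support := twist_support ζ x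
    have hy : (twistFun ζ y).support = y.support := twist_support ζ y
    rw [HahnSeries.coeff_mul, HahnSeries.coeff_mul, Finset.mul_sum]
    refine Finset.sum_congr (by ext ij; simp only [Finset.mem_addAntidiagonal, hx, hy]) fun ij hij => ?_
    simp only [Finset.mem_addAntidiagonal] at hij
    simp only [twistFun]
    rw [← hij.2.2, zpow_add, Units.val_mul]
    ring
  map_zero' := by ext g; simp [twistFun]
  map_add' x y := by ext g; simp [twistFun, mul_add]

@[simp] theorem twist_coeff (ζ : Rˣ) (x : LaurentSeries R) (g : ℤ) :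
    (twist ζ x).coeff g = ((ζ ^ g : Rˣ) : R) * x.coeff g := rfl

theorem lmap_comp_twist (f : R →+* S) (ζ : Rˣ) :
    (lmap f).comp (twist ζ) = (twist (Units.map f.toMonoidHom ζ)).comp (lmap f) := by
  ext x g
  have : f ((ζ ^ g : Rˣ) : R) = ((Units.map f.toMonoidHom ζ ^ g : Sˣ) : S) := by rw [← map_zpow]; rfl
  simp [this]

section EmbDomain

variable (d : ℕ) (hinj : Function.Injective (AddMonoidHom.mulLeft (d : ℤ)))
  (hmono : ∀ g g' : ℤ, AddMonoidHom.mulLeft (d : ℤ) g ≤ AddMonoidHom.mulLeft (d : ℤ) g' ↔ g ≤ g')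

theorem emb_coeff (x : LaurentSeries R) (g : ℤ) :
    (HahnSeries.embDomainRingHom (R := R) _ hinj hmono x).coeff ((d : ℤ) * g) = x.coeff g :=
  HahnSeries.embDomain_coeff

theorem emb_coeff_of_not_dvd (x : LaurentSeries R) {g : ℤ} (hg : ¬ (d : ℤ) ∣ g) :
    (HahnSeries.embDomainRingHom (R := R) _ hinj hmono x).coeff g = 0 := by
  refine HahnSeries.embDomain_of_notMem_range ?_
  rintro ⟨m, rfl⟩
  exact hg ⟨m, rfl⟩

theorem emb_injective : Function.Injective (HahnSeries.embDomainRingHom (R := R) _ hinj hmono) := fun x y h => by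
  ext g
  have h2 := congrArg (fun z : LaurentSeries R => z.coeff ((d : ℤ) * g)) h
  simpa only [emb_coeff] using h2

theorem lmap_comp_emb (f : R →+* S) :
    (lmap f).comp (HahnSeries.embDomainRingHom (R := R) _ hinj hmono) =
      (HahnSeries.embDomainRingHom (R := S) _ hinj hmono).comp (lmap f) := by
  refine RingHom.ext fun x => HahnSeries.ext (funext fun g => ?_)
  by_cases hg : (d : ℤ) ∣ g
  · obtain ⟨m, rfl⟩ := hg
    simp only [RingHom.comp_apply, lmap_coeff]
    rw [emb_coeff, emb_coeff, lmap_coeff]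
  · simp only [RingHom.comp_apply, lmap_coeff]
    rw [emb_coeff_of_not_dvd _ _ _ _ hg, emb_coeff_of_not_dvd _ _ _ _ hg, map_zero]

theorem twist_comp_emb (ζ : Rˣ) (hζ : ζ ^ d = 1) :
    (twist ζ).comp (HahnSeries.embDomainRingHom (R := R) _ hinj hmono) =
      HahnSeries.embDomainRingHom (R := R) _ hinj hmono := by
  refine RingHom.ext fun x => HahnSeries.ext (funext fun g => ?_)
  by_cases hg : (d : ℤ) ∣ g
  · obtain ⟨m, rfl⟩ := hg
    simp [zpow_mul, hζ]
  · simp only [RingHom.comp_apply, twist_coeff, emb_coeff_of_not_dvd _ _ _ _ hg, mul_zero]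

/-- A series fixed by `t ↦ ζ t`, `ζ` a primitive root with `ζ ^ g - 1` invertible, is a series in `t ^ d`. -/
theorem mem_range_emb (hd : 0 < d) (ζ : Rˣ) (hζ : ∀ g : ℤ, ¬ (d : ℤ) ∣ g → IsUnit (((ζ ^ g : Rˣ) : R) - 1))
    (x : LaurentSeries R) (hx : twist ζ x = x) :
    x ∈ Set.range (HahnSeries.embDomainRingHom (R := R) _ hinj hmono) := by
  have hbd : BddBelow (Function.support fun m : ℤ => x.coeff ((d : ℤ) * m)) := by
    refine ⟨min x.order 0, fun m hm => ?_⟩
    have h1 : x.order ≤ (d : ℤ) * m := HahnSeries.order_le_of_coeff_ne_zero hm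
    rcases le_or_gt 0 m with h | h
    · exact (min_le_right _ _).trans h
    · exact (min_le_left _ _).trans (h1.trans (by nlinarith))
  refine ⟨HahnSeries.ofSuppBddBelow (fun m : ℤ => x.coeff ((d : ℤ) * m)) hbd, HahnSeries.ext (funext fun g => ?_)⟩
  by_cases hg : (d : ℤ) ∣ g
  · obtain ⟨m, rfl⟩ := hg
    exact emb_coeff d hinj hmono _ m
  · rw [emb_coeff_of_not_dvd _ _ _ _ hg]
    have h := congrArg (fun y : LaurentSeries R => y.coeff g) hx
    simp only [twist_coeff] at h
    refine ((hζ g hg).mul_right_eq_zero.1 ?_).symm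
    rw [sub_mul, one_mul, h, sub_self]

end EmbDomain

theorem coeff_mul_mem {I J : Ideal R} {x y : LaurentSeries R} (hx : ∀ g, x.coeff g ∈ I) (hy : ∀ g, y.coeff g ∈ J)
    (g : ℤ) : (x * y).coeff g ∈ I * J := by
  rw [HahnSeries.coeff_mul]
  exact Ideal.sum_mem _ fun ij _ => Ideal.mul_mem_mul (hx _) (hy _)

theorem idem_eq_zero_of_coeff_mem_nilpotent {J : Ideal R} (hJ : IsNilpotent J) {e : LaurentSeries R}
    (he : IsIdempotentElem e) (h : ∀ g, e.coeff g ∈ J) : e = 0 := by
  obtain ⟨N, hN⟩ := hJ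
  have key : ∀ k : ℕ, ∀ g, e.coeff g ∈ J ^ (k + 1) := by
    intro k
    induction k with
    | zero => simpa using h
    | succ k ih =>
      intro g
      rw [pow_succ, ← he.eq]
      exact coeff_mul_mem ih h g
  ext g
  have h2 := Ideal.pow_le_pow_right N.le_succ (key N g)
  rw [hN] at h2
  simpa using h2

theorem idem_eq_zero_of_residue_eq_zero [IsLocalRing R] {e : LaurentSeries R} (he : IsIdempotentElem e)
    (h : lmap (residue R) e = 0) : e = 0 := by
  have hm : ∀ g, e.coeff g ∈ maximalIdeal R := fun g => by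
    rw [← residue_eq_zero_iff, ← lmap_coeff, h, HahnSeries.coeff_zero]
  have hnil : ∀ g < 0, IsNilpotent (e.coeff g) := by
    intro g hg
    rw [← mem_nilradical, nilradical_eq_sInf, Ideal.mem_sInf]
    intro p hp
    haveI : p.IsPrime := hp
    rw [← Ideal.Quotient.eq_zero_iff_mem, ← lmap_coeff]
    rcases IsIdempotentElem.iff_eq_zero_or_one.1 (he.map (lmap (Ideal.Quotient.mk p))) with h0 | h1
    · rw [h0, HahnSeries.coeff_zero]
    · rw [h1, HahnSeries.coeff_one, if_neg hg.ne]
  let J : Ideal R := Ideal.span ((fun g => e.coeff g) '' (Set.Ico e.order 0))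
  have hJ : IsNilpotent J := by
    rw [Ideal.FG.isNilpotent_iff_le_nilradical (Submodule.fg_span ((Set.finite_Ico _ _).image _))]
    exact Ideal.span_le.2 (by rintro _ ⟨g, hg, rfl⟩; exact mem_nilradical.2 (hnil g hg.2))
  have hneg : ∀ g < 0, e.coeff g ∈ J := fun g hg => by
    by_cases h0 : e.coeff g = 0
    · rw [h0]; exact J.zero_mem
    · exact Ideal.subset_span ⟨g, ⟨HahnSeries.order_le_of_coeff_ne_zero h0, hg⟩, rfl⟩
  refine idem_eq_zero_of_coeff_mem_nilpotent hJ he fun g => ?_
  rw [← Ideal.Quotient.eq_zero_iff_mem, ← lmap_coeff]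
  set π := Ideal.Quotient.mk J
  let f : PowerSeries (R ⧸ J) := PowerSeries.mk fun n => π (e.coeff n)
  have hf : HahnSeries.ofPowerSeries ℤ (R ⧸ J) f = lmap π e := by
    ext m
    rcases lt_or_ge m 0 with hm0 | hm0
    · rw [HahnSeries.ofPowerSeries_apply, HahnSeries.embDomain_of_notMem_range, lmap_coeff,
        Ideal.Quotient.eq_zero_iff_mem.2 (hneg m hm0)]
      rintro ⟨n, hn⟩
      simp at hn
      omega
    · obtain ⟨n, rfl⟩ := Int.eq_ofNat_of_zero_le hm0
      rw [HahnSeries.ofPowerSeries_apply_coeff]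
      simp [f]
  have hidem : f * f = f := HahnSeries.ofPowerSeries_injective (Γ := ℤ) (R := R ⧸ J)
    (by rw [map_mul, hf]; exact (he.map (lmap π)).eq)
  have hu : IsUnit (1 - f) := by
    rw [PowerSeries.isUnit_iff_constantCoeff]
    simp only [map_sub, map_one, f, ← PowerSeries.coeff_zero_eq_constantCoeff_apply, PowerSeries.coeff_mk]
    rw [← map_one π, ← map_sub]
    exact (IsLocalRing.isUnit_one_sub_self_of_mem_nonunits _ (hm 0)).map π
  have : f = 0 := hu.mul_left_eq_zero.1 (by rw [mul_sub, mul_one, hidem, sub_self])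
  rw [← hf, this, map_zero, HahnSeries.coeff_zero]

/-- Laurent series over a local ring have no non-trivial idempotents. -/
theorem idem_trivial [IsLocalRing R] (e : LaurentSeries R) (he : IsIdempotentElem e) : e = 0 ∨ e = 1 := by
  rcases IsIdempotentElem.iff_eq_zero_or_one.1 (he.map (lmap (residue R))) with h | h
  · exact Or.inl (idem_eq_zero_of_residue_eq_zero he h)
  · refine Or.inr (sub_eq_zero.1 (idem_eq_zero_of_residue_eq_zero he.one_sub (by rw [map_sub, map_one, h, sub_self]))).symm

/-- A primitive `d`-th root of unity in a strictly henselian local ring. -/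
theorem exists_zeta [HenselianLocalRing R] [IsSepClosed (ResidueField R)] {d : ℕ} (hd : 0 < d)
    (hdu : IsUnit (d : R)) :
    ∃ ζ : Rˣ, ζ ^ d = 1 ∧ ∀ g : ℤ, ¬ (d : ℤ) ∣ g → IsUnit (((ζ ^ g : Rˣ) : R) - 1) := by
  haveI : NeZero (d : ResidueField R) := ⟨by simpa using (hdu.map (residue R)).ne_zero⟩
  obtain ⟨a, ha⟩ := IsSepClosed.exists_root (Polynomial.cyclotomic d (ResidueField R))
    (by rw [Polynomial.degree_cyclotomic]; exact_mod_cast (Nat.totient_pos.2 hd).ne')
    (Polynomial.separable_cyclotomic d _)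
  have hprim : IsPrimitiveRoot a d := Polynomial.isRoot_cyclotomic_iff.1 ha
  obtain ⟨a₀, rfl⟩ := residue_surjective a
  have ha0 : IsUnit a₀ := by
    by_contra h
    have : residue R a₀ = 0 := (residue_eq_zero_iff a₀).2 ((IsLocalRing.mem_maximalIdeal _).2 h)
    exact hprim.ne_zero hd.ne' this
  obtain ⟨z, hz, hza⟩ := HenselianLocalRing.is_henselian (Polynomial.X ^ d - 1 : Polynomial R)
    (Polynomial.monic_X_pow_sub_C 1 hd.ne') a₀
    (by
      rw [← residue_eq_zero_iff]
      simp [hprim.pow_eq_one])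
    (by
      simp only [Polynomial.derivative_sub, Polynomial.derivative_X_pow, Polynomial.derivative_one, sub_zero,
        Polynomial.eval_mul, Polynomial.eval_C, Polynomial.eval_pow, Polynomial.eval_X]
      exact hdu.mul (ha0.pow _))
  rw [Polynomial.IsRoot.def, Polynomial.eval_sub, Polynomial.eval_pow, Polynomial.eval_X, Polynomial.eval_one,
    sub_eq_zero] at hz
  obtain ⟨ζ, rfl⟩ := IsUnit.of_pow_eq_one hz hd.ne'
  refine ⟨ζ, Units.ext (by simpa using hz), fun g hg => ?_⟩
  by_contra hnu
  have h0 := (residue_eq_zero_iff _).2 ((IsLocalRing.mem_maximalIdeal _).2 hnu)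
  rw [← residue_eq_zero_iff, map_sub, sub_eq_zero] at hza
  rw [map_sub, map_one, sub_eq_zero] at h0
  apply hg
  let b : (ResidueField R)ˣ := Units.map (residue R).toMonoidHom ζ
  have hb : IsPrimitiveRoot b d := by
    rw [← IsPrimitiveRoot.coe_units_iff]
    show IsPrimitiveRoot (residue R (ζ : R)) d
    rwa [hza]
  rw [← hb.zpow_eq_one_iff_dvd]
  ext
  rw [← map_zpow]
  exact h0

/-- A homomorphism of Laurent series rings that is coefficientwise on power series is coefficientwise. -/
theorem eq_lmap (ρ : LaurentSeries R →+* LaurentSeries S) (f : R →+* S)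
    (h : ρ.comp (HahnSeries.ofPowerSeries ℤ R) = (HahnSeries.ofPowerSeries ℤ S).comp (PowerSeries.map f)) :
    ρ = lmap f := by
  have hps : ∀ p, ρ (HahnSeries.ofPowerSeries ℤ R p) = lmap f (HahnSeries.ofPowerSeries ℤ R p) := fun p => by
    rw [show ρ (HahnSeries.ofPowerSeries ℤ R p) = _ from RingHom.congr_fun h p]
    ext m
    rcases lt_or_ge m 0 with hm0 | hm0
    · have hne : m ∉ Set.range ((↑) : ℕ → ℤ) := by rintro ⟨n, rfl⟩; omega
      rw [RingHom.comp_apply, HahnSeries.ofPowerSeries_apply, HahnSeries.embDomain_of_notMem_range,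
        lmap_coeff, HahnSeries.ofPowerSeries_apply, HahnSeries.embDomain_of_notMem_range, map_zero] <;>
      simpa using hne
    · obtain ⟨n, rfl⟩ := Int.eq_ofNat_of_zero_le hm0
      simp
  refine RingHom.ext fun x => ?_
  have hx : (HahnSeries.single (-x.order) (1 : R)) * x =
      HahnSeries.ofPowerSeries ℤ R (LaurentSeries.powerSeriesPart x) :=
    (LaurentSeries.ofPowerSeries_powerSeriesPart x).symm
  have hu : ∀ k : ℤ, ρ (HahnSeries.single k (1 : R)) = lmap f (HahnSeries.single k (1 : R)) := by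
    have hnat : ∀ n : ℕ, ρ (HahnSeries.single (n : ℤ) (1 : R)) = lmap f (HahnSeries.single (n : ℤ) (1 : R)) := fun n => by
      have := hps (PowerSeries.X ^ n)
      rwa [HahnSeries.ofPowerSeries_X_pow] at this
    intro k
    rcases Int.eq_nat_or_neg k with ⟨n, rfl | rfl⟩
    · exact hnat n
    · have h1 : HahnSeries.single (n : ℤ) (1 : R) * HahnSeries.single (-(n : ℤ)) (1 : R) = 1 := by simp
      exact left_inv_eq_right_inv (by rw [mul_comm, ← map_mul, h1, map_one])
        (by rw [hnat, ← map_mul, h1, map_one])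
  have h3 := hps (LaurentSeries.powerSeriesPart x)
  rw [← hx, map_mul, map_mul, hu] at h3
  refine IsUnit.mul_left_cancel ?_ h3
  exact IsUnit.map _ ⟨⟨HahnSeries.single (-x.order) 1, HahnSeries.single x.order 1, by simp, by simp⟩, rfl⟩

end Groth.Agent.H9Laurent
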