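import Mathlib

/-!
Sections of a split finite etale scheme: descent from a connected extension with enough automorphisms.
-/

universe u

open CategoryTheory CategoryTheory.Limits AlgebraicGeometry

namespace Groth.Agent.H9Laurent

/-- A morphism from the spectrum of a connected ring into a constant finite scheme factors through a component. -/
theorem exists_component {B : Type u} [CommRing B] [Nontrivial B]
    (hB : ∀ e : B, IsIdempotentElem e → e = 0 ∨ e = 1) {n : ℕ} {L : Scheme.{u}}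
    (f : Spec (CommRingCat.of B) ⟶ ∐ fun _ : Fin n => L) :
    ∃ i, f = (f ≫ Sigma.desc (fun _ => 𝟙 L)) ≫ Sigma.ι (fun _ : Fin n => L) i := by
  let U : Fin n → (Spec (CommRingCat.of B)).Opens := fun i => f ⁻¹ᵁ (Sigma.ι (fun _ : Fin n => L) i).opensRange
  have hcov : ∀ x, ∃ i, x ∈ U i := fun x => by
    obtain ⟨i, y, hy⟩ := (sigmaOpenCover (fun _ : Fin n => L)).exists_eq (f x)
    exact ⟨i, y, hy⟩
  obtain ⟨x⟩ : Nonempty (PrimeSpectrum B) := inferInstance
  obtain ⟨i, hi⟩ := hcov x
  refine ⟨i, ?_⟩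
  haveI : PreconnectedSpace (PrimeSpectrum B) := preconnectedSpace_iff_clopen.mpr fun s hs => by
    obtain ⟨e, he, rfl⟩ := PrimeSpectrum.isClopen_iff.mp hs
    rcases hB e he with rfl | rfl
    · left; simp
    · right; simp
  have hcl : IsClopen ((U i : Set (Spec (CommRingCat.of B)))) := by
    refine ⟨⟨?_⟩, (U i).isOpen⟩
    have : ((U i : Set (Spec (CommRingCat.of B))))ᶜ = ⋃ (j) (_ : j ≠ i), (U j : Set (Spec (CommRingCat.of B))) := by
      ext y
      simp only [Set.mem_compl_iff, Set.mem_iUnion, SetLike.mem_coe]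
      constructor
      · intro hy
        obtain ⟨j, hj⟩ := hcov y
        exact ⟨j, fun h => hy (h ▸ hj), hj⟩
      · rintro ⟨j, hji, hj⟩ hy
        exact (disjoint_opensRange_sigmaι (fun _ : Fin n => L) j i hji).le_bot ⟨hj, hy⟩
    rw [this]
    exact isOpen_iUnion fun j => isOpen_iUnion fun _ => (U j).isOpen
  haveI : PreconnectedSpace (Spec (CommRingCat.of B)) := ‹PreconnectedSpace (PrimeSpectrum B)›
  have huniv := (isClopen_iff.mp hcl).resolve_left (Set.Nonempty.ne_empty ⟨x, hi⟩)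
  have hrange : Set.range f.base ⊆ Set.range (Sigma.ι (fun _ : Fin n => L) i).base := by
    rintro _ ⟨y, rfl⟩
    exact (show y ∈ (U i : Set (Spec (CommRingCat.of B))) from huniv.symm ▸ Set.mem_univ y)
  have hl := IsOpenImmersion.lift_fac (Sigma.ι (fun _ : Fin n => L) i) f hrange
  generalize IsOpenImmersion.lift (Sigma.ι (fun _ : Fin n => L) i) f hrange = l at hl
  subst hl
  simp [Category.assoc, Sigma.ι_desc]

theorem component_unique {B : Scheme.{u}} [Nonempty B] {n : ℕ} {L : Scheme.{u}} (g : B ⟶ L) {i j : Fin n}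
    (h : g ≫ Sigma.ι (fun _ : Fin n => L) i = g ≫ Sigma.ι (fun _ : Fin n => L) j) : i = j := by
  by_contra hij
  obtain ⟨y⟩ := (inferInstance : Nonempty B)
  exact (isEmpty_of_commSq_sigmaι_of_ne (g := fun _ : Fin n => L) (a := g) (b := g) ⟨h⟩ hij).false y

section Affine

variable {X : Scheme.{u}} [IsAffine X]

theorem hom_ext_of_injective {A B : Type u} [CommRing A] [CommRing B] (φ : A →+* B) (hφ : Function.Injective φ)
    {f g : Spec (CommRingCat.of A) ⟶ X}
    (h : Spec.map (CommRingCat.ofHom φ) ≫ f = Spec.map (CommRingCat.ofHom φ) ≫ g) : f = g := by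
  rw [← cancel_mono X.isoSpec.hom]
  obtain ⟨a, ha⟩ : ∃ a, Spec.map a = f ≫ X.isoSpec.hom := ⟨_, Spec.map_preimage _⟩
  obtain ⟨b, hb⟩ : ∃ b, Spec.map b = g ≫ X.isoSpec.hom := ⟨_, Spec.map_preimage _⟩
  rw [← ha, ← hb]
  congr 1
  have hab : a ≫ CommRingCat.ofHom φ = b ≫ CommRingCat.ofHom φ := by
    apply Spec.map_injective
    rw [Spec.map_comp, Spec.map_comp, ha, hb, ← Category.assoc, ← Category.assoc, h]
  refine CommRingCat.hom_ext (RingHom.ext fun x => hφ ?_)
  exact congrArg (fun q => q.hom x) hab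

theorem exists_factor_of_range {A B : Type u} [CommRing A] [CommRing B] (φ : A →+* B) (hφ : Function.Injective φ)
    {ι : Type*} (σ : ι → B →+* B) (hfix : ∀ x, (∀ i, σ i x = x) → x ∈ Set.range φ)
    (f : Spec (CommRingCat.of B) ⟶ X) (hf : ∀ i, Spec.map (CommRingCat.ofHom (σ i)) ≫ f = f) :
    ∃ g : Spec (CommRingCat.of A) ⟶ X, Spec.map (CommRingCat.ofHom φ) ≫ g = f := by
  obtain ⟨a, ha⟩ : ∃ a, Spec.map a = f ≫ X.isoSpec.hom := ⟨_, Spec.map_preimage _⟩
  have hr : ∀ x, a.hom x ∈ φ.range := fun x => RingHom.mem_range.2 (hfix _ fun i => by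
    have : a ≫ CommRingCat.ofHom (σ i) = a := by
      apply Spec.map_injective
      rw [Spec.map_comp, ha, ← Category.assoc, hf]
    exact congrArg (fun q => q.hom x) this)
  let e := RingEquiv.ofBijective φ.rangeRestrict
    ⟨fun x y h => hφ (congrArg Subtype.val h), φ.rangeRestrict_surjective⟩
  let b : _ →+* A := e.symm.toRingHom.comp (a.hom.codRestrict φ.range hr)
  have hb : φ.comp b = a.hom := RingHom.ext fun x => by
    show ((e (e.symm _)) : B) = _
    rw [e.apply_symm_apply]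
    rfl
  refine ⟨Spec.map (CommRingCat.ofHom b) ≫ X.isoSpec.inv, ?_⟩
  rw [← Category.assoc, ← Spec.map_comp, ← CommRingCat.ofHom_comp, hb, CommRingCat.ofHom_hom, ha,
    Category.assoc, Iso.hom_inv_id, Category.comp_id]

end Affine

/-- Descent of sections along a connected extension: abstract form. -/
theorem bijective_sections {A L κ Lk : Type u} [CommRing A] [CommRing L] [CommRing κ] [CommRing Lk]
    [Nontrivial L] [Nontrivial Lk]
    (hL : ∀ e : L, IsIdempotentElem e → e = 0 ∨ e = 1) (hLk : ∀ e : Lk, IsIdempotentElem e → e = 0 ∨ e = 1)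
    (i : A →+* L) (hi : Function.Injective i) (j : κ →+* Lk) (hj : Function.Injective j)
    (r : A →+* κ) (rs : L →+* Lk) (hsq : rs.comp i = j.comp r)
    {ι : Type*} (σ : ι → L →+* L) (σk : ι → Lk →+* Lk) (hσi : ∀ t, (σ t).comp i = i)
    (hσj : ∀ t, (σk t).comp j = j) (hσrs : ∀ t, rs.comp (σ t) = (σk t).comp rs)
    (hfix : ∀ x : L, (∀ t, σ t x = x) → x ∈ Set.range i)
    (X : Scheme.{u}) [IsAffine X] (p : X ⟶ Spec (CommRingCat.of A)) (n : ℕ)
    (e : pullback p (Spec.map (CommRingCat.ofHom i)) ≅ ∐ fun _ : Fin n => Spec (CommRingCat.of L))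
    (he : e.hom ≫ Sigma.desc (fun _ : Fin n => 𝟙 (Spec (CommRingCat.of L))) =
      pullback.snd p (Spec.map (CommRingCat.ofHom i))) :
    (∀ s₁ s₂ : Spec (CommRingCat.of A) ⟶ X, s₁ ≫ p = 𝟙 _ → s₂ ≫ p = 𝟙 _ →
        Spec.map (CommRingCat.ofHom r) ≫ s₁ = Spec.map (CommRingCat.ofHom r) ≫ s₂ → s₁ = s₂) ∧
    (∀ s' : Spec (CommRingCat.of κ) ⟶ X, s' ≫ p = Spec.map (CommRingCat.ofHom r) →
        ∃ s : Spec (CommRingCat.of A) ⟶ X, s ≫ p = 𝟙 _ ∧ Spec.map (CommRingCat.ofHom r) ≫ s = s') := by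
  let S := Spec (CommRingCat.of L)
  let c : Fin n → (S ⟶ X) := fun m => Sigma.ι (fun _ : Fin n => S) m ≫ e.inv ≫ pullback.fst _ _
  have hsnd : ∀ m, Sigma.ι (fun _ : Fin n => S) m ≫ e.inv ≫ pullback.snd p (Spec.map (CommRingCat.ofHom i)) = 𝟙 S := by
    intro m
    rw [← he, Iso.inv_hom_id_assoc, Sigma.ι_desc]
  have hc : ∀ m, c m ≫ p = Spec.map (CommRingCat.ofHom i) := fun m => by
    simp only [c, Category.assoc, pullback.condition]
    rw [← Category.assoc (e.inv), ← Category.assoc (Sigma.ι _ m), hsnd, Category.id_comp]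
  -- points over a connected extension are components
  have hex : ∀ {B : Type u} [CommRing B] [Nontrivial B], (∀ x : B, IsIdempotentElem x → x = 0 ∨ x = 1) →
      ∀ (g : L →+* B) (a : Spec (CommRingCat.of B) ⟶ X),
        a ≫ p = Spec.map (CommRingCat.ofHom g) ≫ Spec.map (CommRingCat.ofHom i) →
        ∃ m, a = Spec.map (CommRingCat.ofHom g) ≫ c m := by
    intro B _ _ hB g a ha
    obtain ⟨m, hm⟩ := exists_component hB (pullback.lift a _ ha ≫ e.hom)
    refine ⟨m, ?_⟩
    rw [Category.assoc (pullback.lift a _ ha), he, pullback.lift_snd] at hm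
    have := congrArg (fun q => q ≫ e.inv ≫ pullback.fst p (Spec.map (CommRingCat.ofHom i))) hm
    simp only [Category.assoc, Iso.hom_inv_id_assoc] at this
    exact (pullback.lift_fst a (Spec.map (CommRingCat.ofHom g)) ha).symm.trans this
  have huniq : ∀ m m', Spec.map (CommRingCat.ofHom rs) ≫ c m = Spec.map (CommRingCat.ofHom rs) ≫ c m' → m = m' := by
    intro m m' h
    haveI : Nonempty (Spec (CommRingCat.of Lk)) := inferInstanceAs (Nonempty (PrimeSpectrum Lk))
    refine component_unique (Spec.map (CommRingCat.ofHom rs)) ?_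
    rw [← cancel_mono e.inv]
    apply pullback.hom_ext
    · simpa [c, Category.assoc] using h
    · simp only [Category.assoc]
      rw [hsnd, hsnd]
  refine ⟨fun s₁ s₂ h₁ h₂ h => ?_, fun s' hs' => ?_⟩
  · have hid : ∀ s : Spec (CommRingCat.of A) ⟶ X, s ≫ p = 𝟙 _ →
        ∃ m, Spec.map (CommRingCat.ofHom i) ≫ s = c m := fun s hs => by
      obtain ⟨m, hm⟩ := hex hL (RingHom.id L) (Spec.map (CommRingCat.ofHom i) ≫ s) (by
        rw [Category.assoc, hs, Category.comp_id, CommRingCat.ofHom_id, Spec.map_id, Category.id_comp])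
      exact ⟨m, by rw [hm, CommRingCat.ofHom_id, Spec.map_id, Category.id_comp]⟩
    obtain ⟨m₁, e₁⟩ := hid s₁ h₁
    obtain ⟨m₂, e₂⟩ := hid s₂ h₂
    refine hom_ext_of_injective i hi ?_
    rw [e₁, e₂]
    congr 1
    apply huniq
    rw [← e₁, ← e₂, ← Category.assoc, ← Category.assoc, ← Spec.map_comp, ← CommRingCat.ofHom_comp, hsq,
      CommRingCat.ofHom_comp, Spec.map_comp, Category.assoc, Category.assoc, h]
  · obtain ⟨m, hm⟩ := hex hLk rs (Spec.map (CommRingCat.ofHom j) ≫ s') (by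
      rw [Category.assoc, hs', ← Spec.map_comp, ← Spec.map_comp, ← CommRingCat.ofHom_comp,
        ← CommRingCat.ofHom_comp, hsq])
    have hinv : ∀ t, Spec.map (CommRingCat.ofHom (σ t)) ≫ c m = c m := fun t => by
      obtain ⟨m', hm'⟩ := hex hL (RingHom.id L) (Spec.map (CommRingCat.ofHom (σ t)) ≫ c m) (by
        rw [Category.assoc, hc, ← Spec.map_comp, ← CommRingCat.ofHom_comp, hσi, CommRingCat.ofHom_id, Spec.map_id,
          Category.id_comp])
      rw [CommRingCat.ofHom_id, Spec.map_id, Category.id_comp] at hm'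
      rw [hm']
      congr 1
      apply huniq
      rw [← hm', ← Category.assoc, ← Spec.map_comp, ← CommRingCat.ofHom_comp, hσrs, CommRingCat.ofHom_comp,
        Spec.map_comp, Category.assoc, ← hm, ← Category.assoc, ← Spec.map_comp, ← CommRingCat.ofHom_comp, hσj]
    obtain ⟨s, hs⟩ := exists_factor_of_range i hi σ hfix (c m) hinv
    refine ⟨s, hom_ext_of_injective i hi (by rw [← Category.assoc, hs, hc, Category.comp_id]), ?_⟩
    refine hom_ext_of_injective j hj ?_
    rw [← Category.assoc, ← Spec.map_comp, ← CommRingCat.ofHom_comp, ← hsq, CommRingCat.ofHom_comp,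
      Spec.map_comp, Category.assoc, hs, hm]

end Groth.Agent.H9Laurent
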